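import Groth.Agent.QCoh.FiniteType
import Groth.Agent.CycLib.ModStalk

/-!
The annihilator ideal sheaf of a quasi-coherent module of finite type.
-/

universe u

open CategoryTheory AlgebraicGeometry TopologicalSpace Opposite

noncomputable section

namespace Groth.Agent.ScSupp

open Groth.Agent

variable {X : Scheme.{u}} (F : X.Modules) [F.IsQuasicoherent] [F.IsFiniteType]

lemma map_annihilator (U : X.affineOpens) (f : Γ(X, U)) :
    (Module.annihilator Γ(X, U.1) Γ(F, U.1)).map
        (X.presheaf.map (homOfLE <| X.basicOpen_le f).op).hom =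
      Module.annihilator Γ(X, X.basicOpen f) Γ(F, X.basicOpen f) := by
  have hloc := QCoh.isLocalizingAt F U.2 f
  have hle : X.basicOpen f ≤ U.1 := X.basicOpen_le f
  have hsmul : ∀ (a : Γ(X, U.1)) (s : Γ(F, U.1)),
      QCoh.res F hle (a • s) = QCoh.rres hle a • QCoh.res F hle s := fun a s ↦
    Scheme.Modules.map_smul F (homOfLE hle) a s
  haveI := U.2.isLocalization_basicOpen f
  have hunit : IsUnit (QCoh.rres hle f) :=
    IsLocalization.Away.algebraMap_isUnit (R := Γ(X, U.1)) (S := Γ(X, X.basicOpen f)) f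
  refine le_antisymm (Ideal.map_le_iff_le_comap.mpr fun a ha ↦ ?_) fun b hb ↦ ?_
  · refine Ideal.mem_comap.mpr (Module.mem_annihilator.mpr fun m ↦ ?_)
    obtain ⟨n, s, hs⟩ := hloc.surj m
    have h := hsmul a s
    rw [Module.mem_annihilator.mp ha s, map_zero, hs] at h
    refine ((hunit.pow n).smul_eq_zero).mp ?_
    rw [smul_comm] at h
    simpa using h.symm
  · obtain ⟨⟨a, ⟨_, k, rfl⟩⟩, hab⟩ :=
      IsLocalization.surj (M := Submonoid.powers f) (S := Γ(X, X.basicOpen f)) b
    haveI := QCoh.finite_sections_of_isFiniteType F U.2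
    classical
    obtain ⟨S, hS⟩ := Module.Finite.fg_top (R := Γ(X, U.1)) (M := Γ(F, U.1))
    have key : ∀ s : Γ(F, U.1), QCoh.res F hle (a • s) = 0 := fun s ↦ by
      rw [hsmul, show QCoh.rres hle a = b * algebraMap _ _ (f ^ k) from hab.symm, mul_comm, mul_smul,
        Module.mem_annihilator.mp hb, smul_zero]
    choose n hn using fun s ↦ hloc.eq_zero (a • s) (key s)
    have hN : f ^ S.sup n * a ∈ Module.annihilator Γ(X, U.1) Γ(F, U.1) := by
      refine Module.mem_annihilator.mpr fun m ↦ ?_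
      have hm : m ∈ Submodule.span Γ(X, U.1) (S : Set Γ(F, U.1)) := hS ▸ Submodule.mem_top
      induction hm using Submodule.span_induction with
      | mem y hy =>
        rw [← Nat.add_sub_cancel' (Finset.le_sup (f := n) hy), pow_add, mul_comm (f ^ n y),
          mul_assoc, mul_smul, mul_smul, hn y, smul_zero]
      | zero => exact smul_zero _
      | add x y _ _ hx hy => rw [smul_add, hx, hy, add_zero]
      | smul c x _ hx => rw [smul_comm, hx, smul_zero]
    have hu : IsUnit (algebraMap Γ(X, U.1) Γ(X, X.basicOpen f) (f ^ (S.sup n + k))) := by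
      rw [map_pow]; exact hunit.pow _
    refine (Ideal.unit_mul_mem_iff_mem _ hu).mp ?_
    refine Eq.mp (congrArg (· ∈ _) ?_) (Ideal.mem_map_of_mem _ hN)
    change algebraMap Γ(X, U.1) Γ(X, X.basicOpen f) (f ^ S.sup n * a) = _
    rw [pow_add, map_mul, map_mul, mul_assoc, mul_comm _ b, hab]

/-- The annihilator ideal sheaf. -/
def annIdeal : X.IdealSheafData where
  ideal U := Module.annihilator Γ(X, U.1) Γ(F, U.1)
  map_ideal_basicOpen U f := map_annihilator F U f

lemma support_annIdeal : ((annIdeal F).support : Set X) = CohB1.support F := by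
  ext x
  obtain ⟨U, hU, hxU, -⟩ := exists_isAffineOpen_mem_and_subset (Opens.mem_top x)
  haveI := QCoh.finite_sections_of_isFiniteType F hU
  change _ ↔ ¬ Subsingleton (F.presheaf.stalk x)
  rw [not_subsingleton_iff_nontrivial, CycLib.nontrivial_stalk_iff F hU hxU]
  have h := Set.ext_iff.mp ((annIdeal F).coe_support_inter ⟨U, hU⟩) x
  have h' : x ∈ ((annIdeal F).support : Set X) ↔
      x ∈ X.zeroLocus (U := U) ((annIdeal F).ideal ⟨U, hU⟩ : Set Γ(X, U)) :=
    ⟨fun hx ↦ (h.mp ⟨hx, hxU⟩).1, fun hx ↦ (h.mpr ⟨hx, hxU⟩).1⟩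
  rw [h', Scheme.mem_zeroLocus_iff]
  constructor
  · intro hz a ha
    by_contra hn
    exact hz a ha ((X.mem_basicOpen a x hxU).mpr ((CycLib.not_mem_primeIdealOf_iff hU hxU a).mp hn))
  · intro hle a ha hb
    exact (CycLib.not_mem_primeIdealOf_iff hU hxU a).mpr ((X.mem_basicOpen a x hxU).mp hb) (hle ha)

end Groth.Agent.ScSupp
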