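import Groth.Agent.ScSupp.Basic
import Groth.Agent.PullStalk.Basic
import Groth.Agent.IdealSh.Comap
import Groth.Agent.QCoh.Pullback
import Mathlib.RingTheory.Flat.Basic
import Mathlib.LinearAlgebra.TensorProduct.Pi
import Mathlib.AlgebraicGeometry.Morphisms.Flat

/-!
The annihilator ideal sheaf commutes with flat pullback.
-/

universe u

open CategoryTheory AlgebraicGeometry TopologicalSpace Opposite
open Groth.Agent.PullStalk.Sky Groth.Agent.PullStalk.Basic
open scoped TensorProduct

noncomputable section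

namespace Groth.Agent.ScSupp

/-- Annihilators of finite modules commute with flat base change. -/
lemma annihilator_baseChange {R S M N : Type u} [CommRing R] [CommRing S] [Algebra R S]
    [AddCommGroup M] [Module R M] [AddCommGroup N] [Module R N] [Module S N] [IsScalarTower R S N]
    [Module.Flat R S] [Module.Finite R M] {φ : M →ₗ[R] N} (h : IsBaseChange S φ) :
    Module.annihilator S N = (Module.annihilator R M).map (algebraMap R S) := by
  refine le_antisymm (fun s hs ↦ ?_) (Ideal.map_le_iff_le_comap.mpr fun a ha ↦ ?_)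
  · obtain ⟨n, m, hm⟩ := Module.Finite.exists_fin (R := R) (M := M)
    let g : R →ₗ[R] Fin n → M := LinearMap.toSpanSingleton R (Fin n → M) m
    have hker : ∀ r, g r = 0 → r ∈ Module.annihilator R M := fun r hr ↦ by
      refine Module.mem_annihilator.mpr fun x ↦ ?_
      have hx : x ∈ Submodule.span R (Set.range m) := hm ▸ Submodule.mem_top
      induction hx using Submodule.span_induction with
      | mem y hy => obtain ⟨i, rfl⟩ := hy; exact congr_fun hr i
      | zero => exact smul_zero _
      | add a b _ _ ha hb => rw [smul_add, ha, hb, add_zero]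
      | smul c a _ ha => rw [smul_comm, ha, smul_zero]
    have hexact : Function.Exact (LinearMap.ker g).subtype g :=
      LinearMap.exact_iff.mpr (Submodule.range_subtype _).symm
    have hz : g.lTensor S (s ⊗ₜ[R] (1 : R)) = 0 := by
      apply (TensorProduct.piRight R R S (fun _ : Fin n ↦ M)).injective
      rw [map_zero]
      ext i
      rw [LinearMap.lTensor_tmul, TensorProduct.piRight_apply, TensorProduct.piRightHom_tmul,
        Pi.zero_apply]
      apply h.equiv.injective
      rw [map_zero, h.equiv_tmul]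
      rw [show g 1 i = m i from by simp [g]]
      exact Module.mem_annihilator.mp hs _
    obtain ⟨w, hw⟩ := (Module.Flat.lTensor_exact S hexact (s ⊗ₜ[R] (1 : R))).mp hz
    have := congrArg (TensorProduct.rid R S) hw
    rw [TensorProduct.rid_tmul, one_smul] at this
    rw [← this]
    clear hw this
    induction w with
    | zero => simp
    | tmul t a =>
      rw [LinearMap.lTensor_tmul, TensorProduct.rid_tmul, Algebra.smul_def]
      exact Ideal.mul_mem_right _ _ (Ideal.mem_map_of_mem _ (hker _ a.2))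
    | add x y hx hy => rw [map_add, map_add]; exact add_mem hx hy
  · refine Ideal.mem_comap.mpr (Module.mem_annihilator.mpr fun x ↦ h.inductionOn x _ ?_ ?_ ?_ ?_)
    · exact smul_zero _
    · intro y; rw [algebraMap_smul, ← map_smul, Module.mem_annihilator.mp ha, map_zero]
    · intro c y hy; rw [smul_comm, hy, smul_zero]
    · intro y z hy hz; rw [smul_add, hy, hz, add_zero]

variable {X Y : Scheme.{u}}

/-- A section of `O` kills the sections of a quasi-coherent module iff its germs kill the stalks. -/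
lemma mem_annihilator_iff (G : Y.Modules) [G.IsQuasicoherent] (V : Y.affineOpens) (b : Γ(Y, V.1)) :
    b ∈ Module.annihilator Γ(Y, V.1) Γ(G, V.1) ↔
      ∀ y (hy : y ∈ V.1), Y.presheaf.germ V.1 y hy b ∈
        Module.annihilator (Y.presheaf.stalk y) (G.presheaf.stalk y) := by
  constructor
  · intro hb y hy
    refine Module.mem_annihilator.mpr fun t ↦ ?_
    obtain ⟨m, r, hr, hrt⟩ := CycLib.exists_smul_germ_eq G V.2 hy t
    have h0 : germM G V.1 y hy (b • m) = 0 := by
      rw [Module.mem_annihilator.mp hb m]; exact map_zero (G.presheaf.germ V.1 y hy).hom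
    rw [germM_smul, ← hrt, smul_comm] at h0
    exact hr.smul_eq_zero.mp h0
  · intro h
    refine Module.mem_annihilator.mpr fun m ↦ ?_
    refine TopCat.Presheaf.section_ext (⟨G.presheaf, G.isSheaf⟩ : TopCat.Sheaf AddCommGrpCat Y)
      V.1 _ _ fun y hy ↦ ?_
    refine Eq.trans ?_ (map_zero (G.presheaf.germ V.1 y hy).hom).symm
    change germM G V.1 y hy (b • m) = 0
    rw [germM_smul]
    exact Module.mem_annihilator.mp (h y hy) _

/-- The annihilator of a stalk. -/
lemma annihilator_stalk (F : X.Modules) [F.IsQuasicoherent] [F.IsFiniteType] (U : X.affineOpens)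
    (x : X) (hx : x ∈ U.1) :
    Module.annihilator (X.presheaf.stalk x) (F.presheaf.stalk x) =
      (Module.annihilator Γ(X, U.1) Γ(F, U.1)).map (X.presheaf.germ U.1 x hx).hom := by
  refine le_antisymm (fun r hr ↦ ?_) (Ideal.map_le_iff_le_comap.mpr fun a ha ↦
    ((mem_annihilator_iff F U a).mp ha x hx))
  letI := TopCat.Presheaf.algebra_section_stalk X.presheaf (⟨x, hx⟩ : U.1)
  haveI := U.2.isLocalization_stalk ⟨x, hx⟩
  haveI := QCoh.finite_sections_of_isFiniteType F U.2
  obtain ⟨⟨a, c⟩, hac⟩ :=
    IsLocalization.surj (U.2.primeIdealOf ⟨x, hx⟩).asIdeal.primeCompl r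
  have hc : IsUnit (X.presheaf.germ U.1 x hx c.1) :=
    IsLocalization.map_units (X.presheaf.stalk x) c
  classical
  obtain ⟨S, hS⟩ := Module.Finite.fg_top (R := Γ(X, U.1)) (M := Γ(F, U.1))
  have h0 : ∀ m, germM F U.1 x hx (a • m) = 0 := fun m ↦ by
    rw [germM_smul, show X.presheaf.germ U.1 x hx a = r * X.presheaf.germ U.1 x hx c.1 from hac.symm,
      mul_comm, mul_smul, Module.mem_annihilator.mp hr, smul_zero]
  choose s hs hsm using fun m ↦ CycLib.exists_smul_eq_zero_of_germ_eq_zero F U.2 hx _ (h0 m)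
  have hu : IsUnit (X.presheaf.germ U.1 x hx (∏ m ∈ S, s m) * X.presheaf.germ U.1 x hx c.1) := by
    rw [map_prod]
    exact (IsUnit.prod_iff.2 fun m _ => hs m).mul hc
  refine (Ideal.unit_mul_mem_iff_mem _ hu).mp ?_
  have hmem : (∏ m ∈ S, s m) * a ∈ Module.annihilator Γ(X, U.1) Γ(F, U.1) := by
    refine Module.mem_annihilator.mpr fun m ↦ ?_
    have hm : m ∈ Submodule.span Γ(X, U.1) (S : Set Γ(F, U.1)) := hS ▸ Submodule.mem_top
    induction hm using Submodule.span_induction with
    | mem y hy =>
      obtain ⟨k, hk⟩ := Finset.dvd_prod_of_mem s hy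
      rw [hk, mul_comm (s y) k, mul_assoc, mul_smul, mul_smul, hsm y, smul_zero]
    | zero => exact smul_zero _
    | add a b _ _ ha hb => rw [smul_add, ha, hb, add_zero]
    | smul c a _ ha => rw [smul_comm, ha, smul_zero]
  refine Eq.mp (congrArg (· ∈ _) ?_) (Ideal.mem_map_of_mem (X.presheaf.germ U.1 x hx).hom hmem)
  rw [map_mul, mul_assoc, mul_comm _ r]
  exact congrArg (_ * ·) hac.symm

/-- Flat pullback commutes with the annihilator. -/
theorem comap_ideal_eq (f : Y ⟶ X) [Flat f] (F : X.Modules) [F.IsQuasicoherent] [F.IsFiniteType]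
    (J : X.IdealSheafData)
    (hJ : ∀ U : X.affineOpens, J.ideal U = Module.annihilator Γ(X, U.1) Γ(F, U.1))
    (V : Y.affineOpens) :
    (J.comap f).ideal V = Module.annihilator Γ(Y, V.1) Γ((Scheme.Modules.pullback f).obj F, V.1) := by
  have key : ∀ y (hy : y ∈ V.1), ((J.comap f).ideal V).map (Y.presheaf.germ V.1 y hy).hom =
      Module.annihilator (Y.presheaf.stalk y)
        (((Scheme.Modules.pullback f).obj F).presheaf.stalk y) := by
    intro y hy
    obtain ⟨_, ⟨(U : X.Opens), (hU : IsAffineOpen U), rfl⟩, hfy, -⟩ :=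
      X.isBasis_affineOpens.exists_subset_of_mem_open (Set.mem_univ (f y)) isOpen_univ
    obtain ⟨_, ⟨(W : Y.Opens), (hW : IsAffineOpen W), rfl⟩, hyW, hWle⟩ :=
      Y.isBasis_affineOpens.exists_subset_of_mem_open
        (show y ∈ (V.1 : Set Y) ∩ (f ⁻¹ᵁ U) from ⟨hy, hfy⟩) (V.1.isOpen.inter (f ⁻¹ᵁ U).isOpen)
    have hWV : W ≤ V.1 := fun z hz ↦ (hWle hz).1
    have hWU : W ≤ f ⁻¹ᵁ U := fun z hz ↦ (hWle hz).2
    haveI := QCoh.finite_sections_of_isFiniteType F hU
    have hgerm : (Y.presheaf.germ V.1 y hy).hom = (Y.presheaf.germ W y hyW).hom.comp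
        (Y.presheaf.map (homOfLE hWV).op).hom := by
      rw [← CommRingCat.hom_comp]
      exact congrArg CommRingCat.Hom.hom (Y.presheaf.germ_res (homOfLE hWV) y hyW).symm
    have e : ((J.comap f).ideal V).map (Y.presheaf.map (homOfLE hWV).op).hom =
        (J.comap f).ideal ⟨W, hW⟩ := (J.comap f).map_ideal (U := ⟨W, hW⟩) (V := V) hWV
    rw [hgerm, ← Ideal.map_map, e,
      IdealSh.Comap.ideal_comap J f ⟨U, hU⟩ ⟨W, hW⟩ hWU, Ideal.map_map, hJ]
    have hcomp : (Y.presheaf.germ W y hyW).hom.comp (f.appLE U W hWU).hom =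
        (f.stalkMap y).hom.comp (X.presheaf.germ U (f y) hfy).hom := by
      rw [← CommRingCat.hom_comp, ← CommRingCat.hom_comp]
      refine congrArg CommRingCat.Hom.hom ?_
      rw [Scheme.Hom.appLE, Category.assoc, Y.presheaf.germ_res, Scheme.Hom.germ_stalkMap]
    rw [hcomp, ← Ideal.map_map, ← annihilator_stalk F ⟨U, hU⟩ (f y) hfy]
    letI := (f.stalkMap y).hom.toAlgebra
    letI := moduleOver f F y
    haveI : IsScalarTower (X.presheaf.stalk (f y)) (Y.presheaf.stalk y)
        (((Scheme.Modules.pullback f).obj F).presheaf.stalk y) :=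
      IsScalarTower.of_algebraMap_smul fun _ _ => rfl
    haveI : Module.Flat (X.presheaf.stalk (f y)) (Y.presheaf.stalk y) := Flat.stalkMap f y
    haveI : Module.Finite (X.presheaf.stalk (f y)) (F.presheaf.stalk (f y)) :=
      FDesc.QuasiFlat.finite_stalk_of_isCoh F ⟨‹_›, ‹_›⟩ (f y)
    exact (annihilator_baseChange (isBaseChange_unitStalk f F y)).symm
  refine le_antisymm (fun b hb ↦ (mem_annihilator_iff _ V b).mpr fun y hy ↦
    key y hy ▸ Ideal.mem_map_of_mem _ hb) fun b hb ↦ ?_
  have : (J.comap f).ideal V = (J.comap f).ideal V ⊔ Ideal.span {b} := by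
    rw [V.2.ideal_ext_iff]
    intro y hy
    rw [Ideal.map_sup, left_eq_sup, Ideal.map_span, Set.image_singleton,
      Ideal.span_singleton_le_iff_mem, key y hy]
    exact (mem_annihilator_iff _ V b).mp hb y hy
  rw [this]
  exact Ideal.mem_sup_right (Ideal.mem_span_singleton_self b)

end Groth.Agent.ScSupp
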